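import Groth.Agent.AbSch.K630.Basic
import Groth.Agent.AbSch.K452.Restr
import Groth.Agent.Sga3B.BcIso

/-!
# Restriction and transport of extensions of tori by abelian schemes (job 249, node RES of S19295)

* `ns_iff`: `n`-splittings of `D : Dat T A` over `V` are the sections `e ∈ E(T ⊗ V)` with `K452.NSplit.IsNSplit`;
* `exists_res`: restriction of `D` along `f : S' ⟶ S`;
* `NS.of_map`, `exists_congr_dat`: transport along isomorphisms of group schemes;
* `exists_res_Gm`: restriction with `T = G_m`.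
-/

set_option autoImplicit false
universe u
open CategoryTheory CategoryTheory.Limits MonoidalCategory CartesianMonoidalCategory MonObj AlgebraicGeometry Opposite
open Groth.Agent.Etdl.H432.Sec K452.HomPts K771.HomEv K630.AbExt

noncomputable section

namespace K472.AbRes

section iff

variable {S : Scheme.{u}} {T A : Over S} [GrpObj T] [IsCommMonObj T] [GrpObj A] [IsCommMonObj A] (D : Dat T A)

theorem ns_iff (n : ℕ) (V : Over S) : D.NS n V ↔ ∃ e : Γs D.E (T ⊗ V), K452.NSplit.IsNSplit D.q (n : ℤ) V e := by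
  constructor
  · rintro ⟨τ, hτ⟩
    refine ⟨Dat.toSec τ, ?_, fun X g₁ g₂ t => (Dat.toSec_add τ g₁ g₂ t).symm⟩
    have h := Dat.q_toSec hτ
    rw [natCast_zsmul]
    exact h
  · rintro ⟨e, he⟩
    obtain ⟨τ, hτ, -⟩ := Dat.exists_of_sec (D := D) (n := n) e (by
      have h := he.proj
      rw [natCast_zsmul] at h
      exact h) (fun W t t' v => (he.add W t t' v).symm)
    exact ⟨τ, hτ⟩

end iff

/-- RES, part 1 -/
theorem exists_res {S S' : Scheme.{u}} (f : S' ⟶ S) {T A : Over S} [GrpObj T] [IsCommMonObj T] [GrpObj A]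
    [IsCommMonObj A] (D : Dat T A) :
    ∃ D' : Dat (Red.bc f T) (Red.bc f A), ∀ (n : ℕ) (W : Over S'), D'.NS n W ↔ D.NS n ((Over.map f).obj W) := by
  let V : Over S := Over.mk f
  let D' : Dat (Red.bc V.hom T) (Red.bc V.hom A) :=
    { E := K452.Restr.resE V D.E
      i := K452.Restr.resI V D.i
      q := K452.Restr.resQ V D.q
      w := K452.Restr.resI_resQ V D.i D.q D.w
      ex := K452.Restr.shortExact_res V D.i D.q D.w D.ex }
  refine ⟨D', fun n W => ?_⟩
  rw [ns_iff D' n W, ns_iff D n]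
  constructor
  · rintro ⟨e, he⟩
    exact ⟨_, K452.Restr.isNSplit_of_res V he⟩
  · rintro ⟨e, he⟩
    exact ⟨_, K452.Restr.isNSplit_res V he⟩

section transport

variable {S : Scheme.{u}} {T A T' A' : Over S} [GrpObj T] [IsCommMonObj T] [GrpObj A]
    [IsCommMonObj A] [GrpObj T'] [IsCommMonObj T'] [GrpObj A'] [IsCommMonObj A']

/-- `n`-splittings are transported along a morphism of extensions which is an isomorphism on `T`. -/
theorem ns_of_map {D : Dat T A} {D' : Dat T' A'} (f : T' ≅ T) [IsMonHom f.hom] (φ : D'.E ⟶ D.E)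
    (hφ : φ ≫ D.q = D'.q ≫ CGrpSh.ptsMap Scheme.fppfPrecoverage f.hom) {n : ℕ} {W : Over S} (h : D'.NS n W) :
    D.NS n W := by
  obtain ⟨τ, hτ⟩ := h
  let p : P T ⟶ P T' := CGrpSh.ptsMap Scheme.fppfPrecoverage f.inv
  refine ⟨K771.HomEv.mk (F := P T) (G := D.E) (T := W)
    (fun X g => (m φ X).comp ((ev τ g).comp (m p X)))
    (fun X X' g k x => ?_), fun X g t => ?_⟩
  · change r D.E k (m φ X (ev τ g (m p X x))) = m φ X' (ev τ (k ≫ g) (m p X' (r (P T) k x)))
    rw [← m_r, ev_r', m_r]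
  · change m D.q X (m φ X (ev τ g (m p X (sec t)))) = n • sec t
    rw [← m_comp, hφ, m_comp]
    have e1 : m p X (sec t) = sec (t ≫ f.inv) := rfl
    rw [e1, hτ X g (t ≫ f.inv), map_nsmul]
    have e2 : m (CGrpSh.ptsMap Scheme.fppfPrecoverage f.hom) X (sec (t ≫ f.inv)) = sec ((t ≫ f.inv) ≫ f.hom) := rfl
    rw [e2, Category.assoc, Iso.inv_hom_id, Category.comp_id]

/-- The transported extension. -/
def congrDat (f : T' ≅ T) [IsMonHom f.hom] (g : A ≅ A') [IsMonHom g.hom] (D : Dat T A) : Dat T' A' where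
  E := D.E
  i := CGrpSh.ptsMap Scheme.fppfPrecoverage g.inv ≫ D.i
  q := D.q ≫ CGrpSh.ptsMap Scheme.fppfPrecoverage f.inv
  w := by rw [Category.assoc, ← Category.assoc D.i, D.w, zero_comp, comp_zero]
  ex := by
    let eA : P A ≅ P A' :=
      { hom := CGrpSh.ptsMap Scheme.fppfPrecoverage g.hom
        inv := CGrpSh.ptsMap Scheme.fppfPrecoverage g.inv
        hom_inv_id := by
          rw [← CGrpSh.ptsMap_comp]
          simp only [Iso.hom_inv_id]
          exact CGrpSh.ptsMap_id _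
        inv_hom_id := by
          rw [← CGrpSh.ptsMap_comp]
          simp only [Iso.inv_hom_id]
          exact CGrpSh.ptsMap_id _ }
    let eT : P T ≅ P T' :=
      { hom := CGrpSh.ptsMap Scheme.fppfPrecoverage f.inv
        inv := CGrpSh.ptsMap Scheme.fppfPrecoverage f.hom
        hom_inv_id := by
          rw [← CGrpSh.ptsMap_comp]
          simp only [Iso.inv_hom_id]
          exact CGrpSh.ptsMap_id _
        inv_hom_id := by
          rw [← CGrpSh.ptsMap_comp]
          simp only [Iso.hom_inv_id]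
          exact CGrpSh.ptsMap_id _ }
    refine ShortComplex.shortExact_of_iso (ShortComplex.isoMk eA (Iso.refl D.E) eT ?_ ?_) D.ex
    · change eA.hom ≫ eA.inv ≫ D.i = D.i ≫ 𝟙 _
      rw [Iso.hom_inv_id_assoc, Category.comp_id]
    · change 𝟙 _ ≫ D.q ≫ eT.hom = D.q ≫ eT.hom
      rw [Category.id_comp]

end transport

/-- RES, part 2: transport along isomorphisms of group schemes -/
theorem exists_congr_dat {S : Scheme.{u}} {T A T' A' : Over S} [GrpObj T] [IsCommMonObj T] [GrpObj A]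
    [IsCommMonObj A] [GrpObj T'] [IsCommMonObj T'] [GrpObj A'] [IsCommMonObj A'] (f : T' ≅ T) [IsMonHom f.hom]
    (g : A ≅ A') [IsMonHom g.hom] (D : Dat T A) :
    ∃ D' : Dat T' A', ∀ (n : ℕ) (W : Over S), D'.NS n W ↔ D.NS n W := by
  refine ⟨congrDat f g D, fun n W => ⟨fun h => ?_, fun h => ?_⟩⟩
  · refine ns_of_map (D := D) (D' := congrDat f g D) f (𝟙 _) ?_ h
    change 𝟙 _ ≫ D.q = (D.q ≫ CGrpSh.ptsMap Scheme.fppfPrecoverage f.inv) ≫ CGrpSh.ptsMap Scheme.fppfPrecoverage f.hom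
    rw [Category.id_comp, Category.assoc, ← CGrpSh.ptsMap_comp]
    simp only [Iso.inv_hom_id]
    rw [CGrpSh.ptsMap_id, Category.comp_id]
  · have : IsMonHom f.symm.hom := inferInstanceAs (IsMonHom f.inv)
    refine ns_of_map (D := congrDat f g D) (D' := D) f.symm (𝟙 _) ?_ h
    change 𝟙 _ ≫ D.q ≫ CGrpSh.ptsMap Scheme.fppfPrecoverage f.inv = D.q ≫ CGrpSh.ptsMap Scheme.fppfPrecoverage f.inv
    rw [Category.id_comp]

/-- `𝔾_m` commutes with base change. -/
def gmIso {S S' : Scheme.{u}} (f : S' ⟶ S) : Grp.mk (Red.bc f (Red.Gm S)) ≅ Grp.mk (Red.Gm S') :=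
  (Groth.Agent.Sga3B.BcIso.bcCompIso f (Limits.IsTerminal.from specULiftZIsTerminal S)
    (Red.diag (ULift.{u} ℤ) ℤ)).symm ≪≫
    Groth.Agent.Sga3B.BcIso.bcCongrIso (specULiftZIsTerminal.hom_ext _ _) _

/-- RES, part 3 -/
theorem exists_res_Gm {S S' : Scheme.{u}} (f : S' ⟶ S) {A : Over S} [GrpObj A] [IsCommMonObj A]
    (D : Dat (Red.Gm S) A) :
    ∃ D' : Dat (Red.Gm S') (Red.bc f A), ∀ (n : ℕ) (W : Over S'), D'.NS n W ↔ D.NS n ((Over.map f).obj W) := by
  obtain ⟨D₁, h₁⟩ := exists_res f D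
  let e : Red.Gm S' ≅ Red.bc f (Red.Gm S) := (Grp.forget _).mapIso (gmIso f).symm
  have he : IsMonHom e.hom := inferInstanceAs (IsMonHom (gmIso f).inv.hom.hom)
  have hid : IsMonHom (Iso.refl (Red.bc f A)).hom := inferInstanceAs (IsMonHom (𝟙 _))
  obtain ⟨D₂, h₂⟩ := exists_congr_dat e (Iso.refl (Red.bc f A)) D₁
  exact ⟨D₂, fun n W => (h₂ n W).trans (h₁ n W)⟩

end K472.AbRes
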